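import Groth.Agent.ResProp.EF.K58.Frame
import Mathlib.RingTheory.Flat.FaithfullyFlat.Basic
import Mathlib.LinearAlgebra.Matrix.Nondegenerate
import Mathlib.LinearAlgebra.Matrix.Basis

/-!
# `Fr i₀ φ` is faithfully flat over the base when `φ` is unimodular
-/

set_option autoImplicit false
set_option linter.style.haveILetI false

open TensorProduct

namespace Groth.Agent.ResProp.EF.K729

open Groth.Agent.ResProp.EF.K58

universe u

/-- a non-zero vector over a field is the `i₀`-th column of an invertible matrix -/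
theorem exists_isUnit_det_col {κ : Type*} [Field κ] {n : Type} [Fintype n] [DecidableEq n] (i₀ : n) (v : n → κ)
    (hv : v ≠ 0) : ∃ g : Matrix n n κ, IsUnit g.det ∧ ∀ i, g i i₀ = v i := by
  obtain ⟨l, hl⟩ := Function.ne_iff.1 hv
  have hl' : v l ≠ 0 := hl
  -- permute the rows so that `l = i₀`
  let σ : Equiv.Perm n := Equiv.swap i₀ l
  let w : n → κ := fun i => v (σ i)
  have hw : w i₀ = v l := by simp [w, σ]
  -- `1` with the column `i₀` replaced by `w`
  let g : Matrix n n κ := (1 : Matrix n n κ).updateCol i₀ w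
  have hg : g.det = v l := by
    have h1 := Matrix.cramer_apply (1 : Matrix n n κ) w i₀
    rw [Matrix.cramer_one] at h1
    change w i₀ = _ at h1
    rw [← hw, h1]
  refine ⟨g.submatrix σ id, ?_, fun i => ?_⟩
  · rw [Matrix.det_permute, hg, isUnit_iff_ne_zero]
    refine mul_ne_zero ?_ hl'
    rcases Int.units_eq_one_or (Equiv.Perm.sign σ) with h | h <;> simp [h]
  · change g (σ i) i₀ = v i
    simp only [g, Matrix.updateCol_self]
    simp [w, σ]

/-- a flat algebra with points over all residue fields is faithfully flat -/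
theorem faithfullyFlat_of_points {B C : Type*} [CommRing B] [CommRing C] [Algebra B C] [Module.Flat B C]
    (h : ∀ (m : Ideal B) [m.IsMaximal], ∃ f : C →+* B ⧸ m, f.comp (algebraMap B C) = Ideal.Quotient.mk m) :
    Module.FaithfullyFlat B C := by
  refine { submodule_ne_top := fun m hm => ?_ }
  intro htop
  obtain ⟨f, hf⟩ := h m
  have h1 : ∀ x : C, x ∈ (m • (⊤ : Submodule B C)) → f x = 0 := by
    intro x hx
    refine Submodule.smul_induction_on hx (fun b hb c _ => ?_) fun x y hx hy => by rw [map_add, hx, hy, add_zero]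
    rw [Algebra.smul_def, map_mul, ← RingHom.comp_apply, hf, Ideal.Quotient.eq_zero_iff_mem.2 hb, zero_mul]
  have h2 : f 1 = 0 := h1 1 (by rw [htop]; exact Submodule.mem_top)
  rw [map_one] at h2
  haveI : Nontrivial (B ⧸ m) := Ideal.Quotient.nontrivial_iff.2 hm.ne_top
  exact one_ne_zero h2

section

variable {B : Type u} [CommRing B] {n : Type} [Fintype n] [DecidableEq n] (i₀ : n) (φ : n → B)

/-- **`Fr i₀ φ` is faithfully flat over `B` when `φ` generates the unit ideal** -/
theorem Fr.faithfullyFlat (h : Ideal.span (Set.range φ) = ⊤) : Module.FaithfullyFlat B (Fr i₀ φ) := by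
  refine faithfullyFlat_of_points fun m hm => ?_
  letI : Field (B ⧸ m) := Ideal.Quotient.field m
  obtain ⟨g, hg, hcol⟩ := exists_isUnit_det_col (κ := B ⧸ m) i₀ (fun i => Ideal.Quotient.mk m (φ i)) (by
    intro h0
    refine hm.ne_top (top_le_iff.1 ?_)
    rw [← h, Ideal.span_le]
    rintro _ ⟨i, rfl⟩
    exact Ideal.Quotient.eq_zero_iff_mem.1 (congrFun h0 i))
  exact ⟨Fr.lift (Ideal.Quotient.mk m) g hg hcol, Fr.lift_comp _ _ _ _⟩

/-- points of `Fr` over a field: a non-zero value of `φ` lifts -/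
theorem Fr.exists_point {κ : Type*} [Field κ] (y : B →+* κ) (h : ∃ i, y (φ i) ≠ 0) :
    ∃ f : Fr i₀ φ →+* κ, f.comp (algebraMap B (Fr i₀ φ)) = y := by
  obtain ⟨i, hi⟩ := h
  obtain ⟨g, hg, hcol⟩ := exists_isUnit_det_col i₀ (fun i => y (φ i)) (Function.ne_iff.2 ⟨i, hi⟩)
  exact ⟨Fr.lift y g hg hcol, Fr.lift_comp _ _ _ _⟩

/-- relative form: `B → B'` any algebra in which `φ` is unimodular; then `B' → B' ⊗ Fr` is faithfully flat -/
theorem Fr.faithfullyFlat_baseChange (B' : Type u) [CommRing B'] [Algebra B B'] (h : Uni φ B') :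
    Module.FaithfullyFlat B' (B' ⊗[B] Fr i₀ φ) := by
  haveI : Module.Flat B' (B' ⊗[B] Fr i₀ φ) := inferInstance
  refine faithfullyFlat_of_points fun m hm => ?_
  letI : Field (B' ⧸ m) := Ideal.Quotient.field m
  let y : B →+* B' ⧸ m := (Ideal.Quotient.mk m).comp (algebraMap B B')
  obtain ⟨f, hf⟩ := Fr.exists_point (κ := B' ⧸ m) i₀ φ y (by
    by_contra hcon
    push Not at hcon
    refine hm.ne_top (top_le_iff.1 ?_)
    rw [← (show Ideal.span (Set.range fun i => algebraMap B B' (φ i)) = ⊤ from h), Ideal.span_le]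
    rintro _ ⟨i, rfl⟩
    exact Ideal.Quotient.eq_zero_iff_mem.1 (hcon i))
  let fa : Fr i₀ φ →ₐ[B] B' ⧸ m := { toRingHom := f, commutes' := fun b => RingHom.congr_fun hf b }
  let q : B' →ₐ[B'] B' ⧸ m := Ideal.Quotient.mkₐ B' m
  refine ⟨(Algebra.TensorProduct.lift q fa fun _ _ => Commute.all _ _ : B' ⊗[B] Fr i₀ φ →ₐ[B'] B' ⧸ m).toRingHom, ?_⟩
  ext b
  change (Algebra.TensorProduct.lift q fa fun _ _ => Commute.all _ _) (b ⊗ₜ[B] 1) = _
  rw [Algebra.TensorProduct.lift_tmul, map_one, mul_one]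
  rfl

end

end Groth.Agent.ResProp.EF.K729
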